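import Mathlib
/-!
Separatedness and quasi-separatedness descend along universally closed surjections; small helpers.
-/
universe u
open AlgebraicGeometry CategoryTheory CategoryTheory.Limits TensorProduct
set_option backward.isDefEq.respectTransparency false
set_option linter.style.haveILetI false

namespace Groth.Agent.SepSurj

theorem isSeparated_of_universallyClosed_surjective {S X Y : Scheme.{u}} (π : X ⟶ Y) (q : Y ⟶ S)
    [UniversallyClosed π] [Surjective π] [IsSeparated (π ≫ q)] : IsSeparated q := by
  let m : pullback (π ≫ q) (π ≫ q) ⟶ pullback q q :=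
    pullback.map (π ≫ q) (π ≫ q) q q π π (𝟙 S) (Category.comp_id _) (Category.comp_id _)
  have hm : UniversallyClosed m :=
    MorphismProperty.pullback_map (P := @UniversallyClosed) ‹_› ‹_› rfl rfl
  have hd : pullback.diagonal (π ≫ q) ≫ m = π ≫ pullback.diagonal q := by
    apply pullback.hom_ext <;> simp [m]
  have hr : Set.range (pullback.diagonal q) = m '' Set.range (pullback.diagonal (π ≫ q)) := by
    rw [← Set.range_comp]
    calc Set.range (pullback.diagonal q) = Set.range (pullback.diagonal q ∘ π) := by
          rw [Set.range_comp _ π, Set.range_eq_univ.2 π.surjective, Set.image_univ]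
      _ = Set.range (m ∘ pullback.diagonal (π ≫ q)) :=
          congrArg Set.range (congrArg (fun t : X ⟶ pullback q q => ⇑t) hd).symm
  constructor
  refine IsClosedImmersion.of_isPreimmersion _ ?_
  rw [hr]
  exact m.isClosedMap _ (pullback.diagonal (π ≫ q)).isClosedEmbedding.isClosed_range

theorem flat_of_comp_faithfullyFlat {R S T : Type u} [CommRing R] [CommRing S] [CommRing T]
    [Algebra R S] [Algebra S T] [Algebra R T] [IsScalarTower R S T] [Module.FaithfullyFlat S T]
    [Module.Flat R T] : Module.Flat R S := by
  rw [Module.Flat.iff_lTensor_injective']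
  intro I x y hxy
  have key : ∀ z, TensorProduct.map (IsScalarTower.toAlgHom R S T).toLinearMap LinearMap.id
      (LinearMap.lTensor S I.subtype z) =
      LinearMap.lTensor T I.subtype (TensorProduct.map (IsScalarTower.toAlgHom R S T).toLinearMap LinearMap.id z) := by
    intro z
    induction z with
    | zero => simp
    | tmul a b => simp
    | add a b ha hb => simp [ha, hb]
  have h1 : TensorProduct.map (IsScalarTower.toAlgHom R S T).toLinearMap LinearMap.id x =
      TensorProduct.map (IsScalarTower.toAlgHom R S T).toLinearMap LinearMap.id y := by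
    apply Module.Flat.lTensor_preserves_injective_linearMap (M := T) I.subtype Subtype.val_injective
    rw [← key, ← key, hxy]
  let c := (TensorProduct.AlgebraTensorModule.cancelBaseChange R S T T I).toLinearMap
  have h2 : ∀ z : S ⊗[R] I, c ((1 : T) ⊗ₜ[S] z) =
      TensorProduct.map (IsScalarTower.toAlgHom R S T).toLinearMap LinearMap.id z := by
    intro z
    induction z with
    | zero => simp
    | tmul a b => simp [c, Algebra.smul_def]
    | add a b ha hb => rw [TensorProduct.tmul_add, map_add, ha, hb, map_add]
  apply Module.FaithfullyFlat.tensorProduct_mk_injective (A := S) (B := T) (M := S ⊗[R] I)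
  apply (TensorProduct.AlgebraTensorModule.cancelBaseChange R S T T I).injective
  exact (h2 x).trans (h1.trans (h2 y).symm)

theorem exists_away_injective {A : Type u} [CommRing A] [IsNoetherianRing A] (p : Ideal A) [p.IsPrime]
    (L : Type u) [CommRing L] [Algebra A L] [IsLocalization.AtPrime L p] :
    ∃ s : A, s ∉ p ∧ ∀ (M : Type u) [CommRing M] [Algebra A M] [IsLocalization.Away s M],
      ∃ φ : M →+* L, Function.Injective φ := by
  classical
  obtain ⟨t, ht⟩ := (IsNoetherian.noetherian (RingHom.ker (algebraMap A L)) : (RingHom.ker (algebraMap A L)).FG)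
  have h : ∀ a ∈ t, ∃ s : A, s ∉ p ∧ s * a = 0 := fun a ha => by
    have : algebraMap A L a = algebraMap A L 0 := by
      rw [map_zero]; exact RingHom.mem_ker.1 (ht ▸ Ideal.subset_span ha)
    obtain ⟨c, hc⟩ := (IsLocalization.eq_iff_exists p.primeCompl L).1 this
    exact ⟨c, c.2, by simpa using hc⟩
  choose! s hs hs0 using h
  refine ⟨∏ a ∈ t, s a, fun hmem => ?_, fun M _ _ _ => ?_⟩
  · obtain ⟨a, ha, hap⟩ := (Ideal.IsPrime.prod_mem_iff).1 hmem
    exact hs a ha hap
  have hkill : ∀ x ∈ RingHom.ker (algebraMap A L), (∏ a ∈ t, s a) * x = 0 := by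
    intro x hx
    rw [← ht] at hx
    induction hx using Submodule.span_induction with
    | mem y hy =>
      rw [← Finset.mul_prod_erase _ _ hy, mul_comm (s y), mul_assoc, hs0 y hy, mul_zero]
    | zero => simp
    | add a b _ _ ha hb => rw [mul_add, ha, hb, add_zero]
    | smul c a _ ha => rw [smul_eq_mul, mul_left_comm, ha, mul_zero]
  have hu : IsUnit (algebraMap A L (∏ a ∈ t, s a)) :=
    IsLocalization.map_units L (⟨∏ a ∈ t, s a, fun hmem => by
      obtain ⟨a, ha, hap⟩ := (Ideal.IsPrime.prod_mem_iff).1 hmem
      exact hs a ha hap⟩ : p.primeCompl)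
  refine ⟨IsLocalization.Away.lift (∏ a ∈ t, s a) hu, (injective_iff_map_eq_zero _).2 fun z hz => ?_⟩
  obtain ⟨n, a, hna⟩ := IsLocalization.Away.surj (∏ a ∈ t, s a) z
  have h0 := congrArg (IsLocalization.Away.lift (∏ a ∈ t, s a) hu) hna
  rw [map_mul, hz, zero_mul, IsLocalization.Away.lift_eq] at h0
  have h1 : algebraMap A M a = 0 := by
    refine (IsLocalization.Away.algebraMap_isUnit (∏ a ∈ t, s a)).mul_right_eq_zero.1 ?_
    rw [← map_mul, hkill a (RingHom.mem_ker.2 h0.symm), map_zero]
  rw [h1] at hna
  exact ((IsLocalization.Away.algebraMap_isUnit (∏ a ∈ t, s a)).pow n).mul_left_eq_zero.1 (by rw [← map_pow] at hna ⊢; exact hna)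

end Groth.Agent.SepSurj
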